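/-
Automorphisms of finite fields: fixed field, norm, Hilbert 90, Speiser's theorem for GL_n.
-/
import Mathlib

set_option autoImplicit false

open scoped Classical

namespace Cfsg.Lib.Classical.FinField

open Matrix
open scoped MatrixGroups

variable {F : Type*} [Field F]

instance finite_aut [Finite F] : Finite (F ≃+* F) :=
  Finite.of_injective (fun e => (e : F → F)) DFunLike.coe_injective

theorem exists_exponent [Fintype F] (σ : F ≃+* F) : ∃ k : ℕ, ∀ x : F, x ≠ 0 → σ x = x ^ k := by
  obtain ⟨g, hg⟩ := IsCyclic.exists_generator (α := Fˣ)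
  obtain ⟨k, hk⟩ := (Submonoid.mem_powers_iff _ _).1 (mem_powers_iff_mem_zpowers.2
    (hg (Units.mk0 (σ g) (by simp))))
  refine ⟨k, fun x hx => ?_⟩
  obtain ⟨j, hj⟩ := (Submonoid.mem_powers_iff _ _).1 (mem_powers_iff_mem_zpowers.2 (hg (Units.mk0 x hx)))
  have hx' : x = (g : F) ^ j := by
    have := congrArg Units.val hj
    simpa using this.symm
  have hk' : σ g = (g : F) ^ k := by
    have := congrArg Units.val hk
    simpa using this.symm
  rw [hx', map_pow, hk', ← pow_mul, ← pow_mul, mul_comm]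

theorem aut_comm [Fintype F] (σ τ : F ≃+* F) : σ * τ = τ * σ := by
  obtain ⟨k, hk⟩ := exists_exponent σ
  obtain ⟨l, hl⟩ := exists_exponent τ
  refine RingEquiv.ext fun x => ?_
  show σ (τ x) = τ (σ x)
  by_cases hx : x = 0
  · simp [hx]
  rw [hk _ (by simpa using hx), hl _ hx, hl _ (by simpa using hx), hk _ hx, ← pow_mul, ← pow_mul, mul_comm]

/-- The fixed field. -/
abbrev fixed (σ : F ≃+* F) : Subfield F := FixedPoints.subfield (Subgroup.zpowers σ) F

theorem mem_fixed {σ : F ≃+* F} {x : F} : x ∈ fixed σ ↔ σ x = x := by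
  constructor
  · intro h; exact h ⟨σ, Subgroup.mem_zpowers σ⟩
  · rintro h ⟨m, hm⟩
    have : Subgroup.zpowers σ ≤ MulAction.stabilizer (F ≃+* F) x := (Subgroup.zpowers_le).2 h
    exact this hm

theorem card_fixed [Fintype F] (σ : F ≃+* F) : Fintype.card F = Nat.card (fixed σ) ^ orderOf σ := by
  let _ : Fintype (Subgroup.zpowers σ) := Fintype.ofFinite _
  have h := Module.card_eq_pow_finrank (K := fixed σ) (V := F)
  rw [FixedPoints.finrank_eq_card] at h
  rw [h, ← Nat.card_eq_fintype_card, ← Nat.card_eq_fintype_card, Nat.card_zpowers]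

theorem fixed_card_eq [Fintype F] {p f : ℕ} [Fact p.Prime] (hF : Fintype.card F = p ^ f) (σ : F ≃+* F) :
    orderOf σ ∣ f ∧ Nat.card (fixed σ) = p ^ (f / orderOf σ) := by
  have h := card_fixed σ
  rw [hF] at h
  have hr := orderOf_pos σ
  obtain ⟨a, ha⟩ : ∃ a, Nat.card (fixed σ) = p ^ a := by
    have hdvd : Nat.card (fixed σ) ∣ p ^ f := h ▸ dvd_pow_self _ hr.ne'
    obtain ⟨a, -, ha⟩ := (Nat.dvd_prime_pow Fact.out).1 hdvd
    exact ⟨a, ha⟩
  rw [ha, ← pow_mul] at h
  have e := Nat.pow_right_injective (Fact.out : p.Prime).two_le h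
  refine ⟨Dvd.intro_left a e.symm, ?_⟩
  rw [ha, e, Nat.mul_div_cancel _ hr]

theorem card_aut [Fintype F] {p f : ℕ} [Fact p.Prime] (hF : Fintype.card F = p ^ f) :
    Nat.card (F ≃+* F) = f := by
  haveI : CharP F p := by
    obtain ⟨q, hq⟩ := CharP.exists F
    haveI := hq
    have hqp : q.Prime := CharP.char_is_prime F q
    haveI : Fact q.Prime := ⟨hqp⟩
    obtain ⟨k, -, hk⟩ := FiniteField.card F q
    have : q ∣ p ^ f := hF ▸ hk ▸ dvd_pow_self q k.ne_zero
    rwa [← (Nat.prime_dvd_prime_iff_eq hqp Fact.out).1 (hqp.dvd_of_dvd_pow this)]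
  let _ : Algebra (ZMod p) F := ZMod.algebra F p
  let e : (F ≃+* F) ≃ (F ≃ₐ[ZMod p] F) :=
    { toFun := fun σ => AlgEquiv.ofRingEquiv (f := σ) fun x =>
        RingHom.congr_fun (RingHom.ext_zmod ((σ : F →+* F).comp (algebraMap (ZMod p) F)) (algebraMap (ZMod p) F)) x
      invFun := fun a => a.toRingEquiv
      left_inv := fun σ => rfl
      right_inv := fun a => rfl }
  rw [Nat.card_congr e, IsGalois.card_aut_eq_finrank]
  have h := Module.card_eq_pow_finrank (K := ZMod p) (V := F)
  rw [hF, ZMod.card] at h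
  exact (Nat.pow_right_injective (Fact.out : p.Prime).two_le h).symm

/-! ### Speiser's theorem -/

variable {n : ℕ}

/-- The semilinear map `v ↦ g σ(v)`. -/
def semi (g : GL (Fin n) F) (σ : F ≃+* F) (v : Fin n → F) : Fin n → F :=
  (g : Matrix (Fin n) (Fin n) F) *ᵥ fun k => σ (v k)

theorem semi_smul (g : GL (Fin n) F) (σ : F ≃+* F) (c : F) (v : Fin n → F) :
    semi g σ (c • v) = σ c • semi g σ v := by
  rw [semi, semi, ← mulVec_smul]
  congr 1
  funext k
  simp

theorem semi_iterate_smul (g : GL (Fin n) F) (σ : F ≃+* F) (k : ℕ) (c : F) (v : Fin n → F) :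
    (semi g σ)^[k] (c • v) = (σ ^ k) c • (semi g σ)^[k] v := by
  induction k with
  | zero => simp
  | succ k ih =>
    rw [Function.iterate_succ_apply', Function.iterate_succ_apply', ih, semi_smul, pow_succ']
    rfl

/-- **Speiser.** -/
theorem speiser (g : GL (Fin n) F) (σ : F ≃+* F) {r : ℕ} (hr : orderOf σ = r) (hr0 : 0 < r)
    (hT : ∀ v, (semi g σ)^[r] v = v) :
    ∃ a : GL (Fin n) F, (g : Matrix (Fin n) (Fin n) F) * (a : Matrix (Fin n) (Fin n) F).map σ = a := by
  let S : Set (Fin n → F) := {v | semi g σ v = v}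
  have hsum : ∀ v, (∑ i ∈ Finset.range r, (semi g σ)^[i] v) ∈ S := by
    intro v
    show semi g σ _ = _
    have hadd : ∀ x y, semi g σ (x + y) = semi g σ x + semi g σ y := fun x y => by
      rw [semi, semi, semi, ← mulVec_add]; congr 1; funext k; simp
    let T : (Fin n → F) →+ (Fin n → F) := AddMonoidHom.mk' (semi g σ) hadd
    show T _ = _
    rw [map_sum]
    show ∑ i ∈ Finset.range r, semi g σ ((semi g σ)^[i] v) = _
    simp only [← Function.iterate_succ_apply']
    have h1 := Finset.sum_range_succ' (fun i => (semi g σ)^[i] v) r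
    have h2 := Finset.sum_range_succ (fun i => (semi g σ)^[i] v) r
    rw [h1, hT v, Function.iterate_zero_apply] at h2
    exact add_right_cancel h2
  have hspan : Submodule.span F S = ⊤ := by
    by_contra hne
    obtain ⟨f, hf0, hf⟩ := Submodule.exists_dual_map_eq_bot_of_lt_top (lt_top_iff_ne_top.2 hne) inferInstance
    apply hf0
    refine LinearMap.ext fun v => ?_
    have hinj : Function.Injective fun i : Fin r => ((σ ^ (i : ℕ) : F ≃+* F) : F →* F) := by
      intro i j hij
      have : σ ^ (i : ℕ) = σ ^ (j : ℕ) := RingEquiv.ext fun x => DFunLike.congr_fun hij x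
      exact Fin.ext (pow_injOn_Iio_orderOf (by show (i : ℕ) < orderOf σ; rw [hr]; exact i.2)
        (by show (j : ℕ) < orderOf σ; rw [hr]; exact j.2) this)
    have hli := (linearIndependent_monoidHom F F).comp _ hinj
    have := Fintype.linearIndependent_iff.1 hli (fun i => f ((semi g σ)^[(i : ℕ)] v)) (funext fun c => ?_) ⟨0, hr0⟩
    · simpa using this
    rw [Finset.sum_apply]
    have h0 : f (∑ i ∈ Finset.range r, (semi g σ)^[i] (c • v)) = 0 := by
      have : f (∑ i ∈ Finset.range r, (semi g σ)^[i] (c • v)) ∈ (Submodule.span F S).map f :=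
        Submodule.mem_map_of_mem (Submodule.subset_span (hsum _))
      rwa [hf, Submodule.mem_bot] at this
    show _ = (0 : F)
    rw [← h0, map_sum, ← Fin.sum_univ_eq_sum_range (fun i => f ((semi g σ)^[i] (c • v))) r]
    refine Finset.sum_congr rfl fun i _ => ?_
    rw [semi_iterate_smul, map_smul]
    simp [mul_comm]
  obtain ⟨t, hts, hspant, hli⟩ := exists_linearIndependent F S
  rw [hspan] at hspant
  let b : Module.Basis t F (Fin n → F) := Module.Basis.mk hli (by rw [Subtype.range_coe, hspant])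
  haveI : Finite t := Module.Finite.finite_basis b
  let _ : Fintype t := Fintype.ofFinite t
  have hcard : Fintype.card t = n := by
    rw [← Module.finrank_eq_card_basis b, Module.finrank_fintype_fun_eq_card, Fintype.card_fin]
  let b' := b.reindex (Fintype.equivFinOfCardEq hcard)
  have hb' : ∀ j, semi g σ (b' j) = b' j := fun j => by
    rw [Module.Basis.reindex_apply, Module.Basis.mk_apply]
    exact hts (Subtype.mem _)
  let M : Matrix (Fin n) (Fin n) F := Matrix.of fun k j => b' j k
  have hM : IsUnit M.det := by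
    have : LinearIndependent F (fun j => M.col j) := b'.linearIndependent
    exact (Matrix.isUnit_iff_isUnit_det M).1 (Matrix.linearIndependent_cols_iff_isUnit.1 this)
  refine ⟨Matrix.GeneralLinearGroup.mk'' M hM, Matrix.ext fun k j => ?_⟩
  show ((g : Matrix (Fin n) (Fin n) F) * M.map σ) k j = b' j k
  conv_rhs => rw [← hb' j]
  rfl

/-! ### The norm -/

/-- The norm to the fixed field, on units. -/
def nrm (σ : F ≃+* F) (r : ℕ) : Fˣ →* Fˣ where
  toFun x := ∏ i ∈ Finset.range r, Units.map ((σ ^ i : F ≃+* F) : F →* F) x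
  map_one' := by simp
  map_mul' x y := by simp [Finset.prod_mul_distrib]

theorem coe_nrm (σ : F ≃+* F) (r : ℕ) (x : Fˣ) :
    ((nrm σ r x : Fˣ) : F) = ∏ i ∈ Finset.range r, (σ ^ i) (x : F) := by
  simp [nrm]

/-- **Hilbert 90.** -/
theorem hilbert90 (σ : F ≃+* F) {r : ℕ} (hr : orderOf σ = r) (hr0 : 0 < r) {x : Fˣ} (hx : nrm σ r x = 1) :
    ∃ μ : Fˣ, (x : F) * σ (μ : F) = μ := by
  have hx' := congrArg Units.val hx
  rw [coe_nrm, Units.val_one] at hx'
  let g : GL (Fin 1) F := Matrix.GeneralLinearGroup.scalar (Fin 1) x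
  have hk : ∀ (k : ℕ) (v : Fin 1 → F), (semi g σ)^[k] v =
      fun j => (∏ i ∈ Finset.range k, (σ ^ i) (x : F)) * (σ ^ k) (v j) := by
    intro k
    induction k with
    | zero => intro v; simp
    | succ k ih =>
      intro v
      funext j
      rw [Function.iterate_succ_apply', ih, Finset.prod_range_succ']
      show ((g : Matrix (Fin 1) (Fin 1) F) *ᵥ _) j = _
      show (Matrix.scalar (Fin 1) (x : F) *ᵥ _) j = _
      rw [scalar_apply, mulVec_diagonal]
      simp only [map_mul, map_prod, pow_zero, pow_succ', RingAut.mul_apply, RingAut.one_apply]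
      ring
  obtain ⟨a, ha⟩ := speiser g σ hr hr0 fun v => by
    rw [hk, hx']
    funext j
    rw [one_mul, ← hr, pow_orderOf_eq_one]
    rfl
  have hne : (a : Matrix (Fin 1) (Fin 1) F) 0 0 ≠ 0 := by
    intro e
    have := (Matrix.GeneralLinearGroup.det a).ne_zero
    rw [Matrix.GeneralLinearGroup.val_det_apply, det_fin_one] at this
    exact this e
  refine ⟨Units.mk0 _ hne, ?_⟩
  have e := congrFun (congrFun ha 0) 0
  simpa [g, Matrix.GeneralLinearGroup.scalar, Matrix.mul_apply] using e

/-- The norm is onto the nonzero fixed elements. -/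
theorem nrm_surjective [Fintype F] (σ : F ≃+* F) {r : ℕ} (hr : orderOf σ = r) (hr0 : 0 < r) {y : Fˣ}
    (hy : σ (y : F) = y) : ∃ x : Fˣ, nrm σ r x = y := by
  let K : Subgroup Fˣ :=
    { carrier := {u | σ (u : F) = u}
      one_mem' := by simp
      mul_mem' := fun {a b} ha hb => by
        show σ ((a * b : Fˣ) : F) = _
        rw [Units.val_mul, map_mul, ha, hb]
      inv_mem' := fun {a} ha => by
        show σ ((a⁻¹ : Fˣ) : F) = _
        rw [Units.val_inv_eq_inv_val, map_inv₀, ha] }
  have hrange : (nrm σ r).range ≤ K := by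
    rintro _ ⟨x, rfl⟩
    show σ _ = _
    rw [coe_nrm, map_prod]
    have h1 := Finset.prod_range_succ' (fun i => (σ ^ i) (x : F)) r
    have h2 := Finset.prod_range_succ (fun i => (σ ^ i) (x : F)) r
    rw [h1, ← hr, pow_orderOf_eq_one, hr] at h2
    simp only [pow_succ', pow_zero] at h2
    exact mul_right_cancel₀ x.ne_zero h2
  let D : Fˣ →* Fˣ :=
    { toFun := fun μ => μ * (Units.map (σ : F →* F) μ)⁻¹
      map_one' := by simp
      map_mul' := fun a b => by rw [map_mul, mul_inv, mul_mul_mul_comm] }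
  have hker : (nrm σ r).ker ≤ D.range := by
    intro x hx
    obtain ⟨μ, hμ⟩ := hilbert90 σ hr hr0 (MonoidHom.mem_ker.1 hx)
    refine ⟨μ, mul_inv_eq_iff_eq_mul.2 (Units.ext ?_)⟩
    exact hμ.symm
  have hDk : D.ker = K := by
    ext u
    rw [MonoidHom.mem_ker]
    show u * _⁻¹ = 1 ↔ σ (u : F) = u
    rw [mul_inv_eq_one, eq_comm, Units.ext_iff]
    rfl
  have e1 := (nrm σ r).ker.card_mul_index
  have e2 := D.ker.card_mul_index
  rw [Subgroup.index_ker] at e1 e2
  rw [hDk] at e2
  have h3 := Subgroup.card_le_of_le hker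
  have heq : (nrm σ r).range = K := by
    refine Subgroup.eq_of_le_of_card_ge hrange (Nat.le_of_mul_le_mul_left ?_ (Nat.card_pos (α := D.range)))
    rw [mul_comm, e2, ← e1]
    exact Nat.mul_le_mul_right _ h3
  exact MonoidHom.mem_range.1 (heq ▸ (hy : y ∈ K))

end Cfsg.Lib.Classical.FinField
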